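/-
The action with its checks.
-/
import Cfsg.Agent.Lib.Spor.HeInvCent.ActV.Data
import Cfsg.Agent.Lib.Spor.HeInvCent.Rels
import Cfsg.Agent.Lib.Spor.TC.Strict

set_option maxRecDepth 100000
set_option maxHeartbeats 0

namespace CfsgLib.Spor.HeInvCent.ActV

open CfsgLib.Spor.TC

theorem range0 : act.RangeOK relsC 0 32 :=
  Act.RangeOK.of_checkS _ (by decide +kernel)

theorem valid : act.Valid relsC :=
  ⟨range0, by decide +kernel, by decide +kernel⟩

theorem bases_ok : act.levelsOK bases [] = true := by decide +kernel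

end CfsgLib.Spor.HeInvCent.ActV
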